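import Cfsg.Agent.H712.OC.Lam
import Cfsg.Agent.H40.OC.Inst

/-!
# The sign character on a frame (S4829, own characteristic; helper712)

* `sgn_frame` : the sign of the conjugation by `t ∈ T` on `U / [U, U]` is `∏ i, eta (F i) (D.a i t)`.
-/

set_option autoImplicit false

namespace Cfsg.Agent.H712.OC

open Cfsg.Agent.H53.HC Cfsg.Agent.H641.Gow Cfsg.Agent.H148.GG Cfsg.Agent.H40.OC

open CoxeterSystem Cfsg.Agent.ChevalleyStructure.CoxeterGeom Cfsg.Agent.Tits.Roots Cfsg.Agent.Tits.Core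
  Cfsg.Agent.Tits.Exchange Cfsg.Agent.Nodes.Reps Cfsg.Agent.Nodes.BNOf Cfsg.Agent.Nodes.StabComb
  Cfsg.Agent.Nodes.Bruhat Cfsg.Agent.Nodes.OppDec Cfsg.Agent.Nodes.LeviDec

variable {I W Y : Type*} [Fintype I] [DecidableEq I] [Group W] [Group Y] {M : CoxeterMatrix I}
  {cs : CoxeterSystem M W} {A : I → I → ℤ} {h : IsCartan M A} {p : ℕ} {T : Subgroup Y} {n : I → Y}
  {X : (I → ℤ) → Subgroup Y}
  (R : RGD cs h p T n X) {F : I → Type*} [∀ i, Field (F i)] (D : Adj T X F)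

/-- the coordinates are jointly surjective -/
theorem co_joint [Finite W] (c : ∀ i, F i) : ∃ u, ∀ i, co R D i u = Multiplicative.ofAdd (c i) := by
  classical
  let f : ↥(UU cs h X) →* (∀ i, Multiplicative (F i)) := MonoidHom.pi (co R D)
  have key : ∀ v : ∀ i, Multiplicative (F i), v ∈ f.range := by
    intro v
    rw [← Finset.univ_prod_mulSingle v]
    refine Subgroup.prod_mem _ fun i _ => ?_
    obtain ⟨x, hx⟩ := D.surjX i (v i)
    refine ⟨⟨x, X_le_UU i x.2⟩, ?_⟩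
    funext j
    change co R D j ⟨x, X_le_UU i x.2⟩ = _
    by_cases hj : j = i
    · subst hj
      rw [Pi.mulSingle_eq_same, co_apply, cor_X R j x.2]
      exact hx
    · rw [Pi.mulSingle_eq_of_ne hj, co_ne R D hj x.2]
  obtain ⟨u, hu⟩ := key fun i => Multiplicative.ofAdd (c i)
  exact ⟨u, fun i => congrFun hu i⟩

/-- the conjugation by an element of the normalizer -/
theorem sgn_frame [Finite W] [Finite Y] [∀ i, Finite (F i)] (hF : ∀ i, Odd (Nat.card (F i)))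
    (hN : ∀ f : ↥(UU cs h X) →* ℂˣ, ∀ u, (∀ i, co R D i u = 1) → f u = 1) (t : T) (τ : MulAut ↥(UU cs h X))
    (hτ : ∀ u : ↥(UU cs h X), ((τ u : ↥(UU cs h X)) : Y) = t * u * (t : Y)⁻¹) :
    sgnAut ↥(UU cs h X) τ = ∏ i, eta (F i) (D.a i t) := by
  refine sgnAut_eq hF (co R D) (co_joint R D) hN τ (fun i => D.a i t) fun i u => ?_
  have h1 : τ u = ⟨(t : Y) * u * (t : Y)⁻¹, T_conj_UU R t.2 u.2⟩ := Subtype.ext (hτ u)
  rw [h1]
  exact congrArg Multiplicative.ofAdd (co_T R D i t.2 u.2)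

end Cfsg.Agent.H712.OC
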