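import Cfsg.Agent.H379.GG.PGL
import Cfsg.Agent.H712.OC.Lam

/-!
# The element `t` for `PSL_{n+1}(F)`, `n ≥ 2` (S4829, own characteristic; helper712)

`t = diag(u, u⁻¹, 1, …, 1)`, `u` a non-square: `∏ i, eta F (a i t) = eta (u²) eta (u⁻¹) = -1`.
-/

set_option autoImplicit false

namespace Cfsg.Agent.H712.OC

open Matrix Cfsg.Agent.H379.GG
open Cfsg.Agent.LieRecognition.BNCox (cA)

variable {F : Type*} [Field F] [Finite F]

/-- a non-square unit -/
theorem exists_eta_neg (hF : Odd (Nat.card F)) : ∃ u : Fˣ, eta F u = -1 := by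
  obtain ⟨g, hg⟩ := IsCyclic.exists_generator (α := Fˣ)
  exact ⟨g, eta_gen hF hg⟩

/-- the diagonal matrix -/
def dvec (n : ℕ) (u : Fˣ) (i : Fin (n + 1)) : Fˣ := if i.val = 0 then u else if i.val = 1 then u⁻¹ else 1

omit [Finite F] in
theorem dvec_det {n : ℕ} (hn : 1 ≤ n) (u : Fˣ) : ∏ i, dvec n u i = 1 := by
  obtain ⟨m, rfl⟩ : ∃ m, n = m + 1 := ⟨n - 1, by omega⟩
  rw [Fin.prod_univ_succ, Fin.prod_univ_succ]
  have h1 : ∀ i : Fin m, dvec (m + 1) u i.succ.succ = 1 := fun i => by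
    unfold dvec
    rw [if_neg (by simp), if_neg (by simp)]
  rw [Finset.prod_congr rfl fun i _ => h1 i, Finset.prod_const_one, mul_one]
  unfold dvec
  simp

/-- the diagonal matrix of determinant one -/
noncomputable def dsl (n : ℕ) (hn : 1 ≤ n) (u : Fˣ) : SpecialLinearGroup (Fin (n + 1)) F :=
  ⟨diagonal fun i => (dvec n u i : F), by
    rw [det_diagonal]
    have := congrArg Units.val (dvec_det hn u)
    simpa using this⟩

omit [Finite F] in
theorem qs_dsl {n : ℕ} (hn : 1 ≤ n) (u : Fˣ) : qs n F (dsl n hn u) = dP n F (dvec n u) := by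
  change pg n F _ = pg n F _
  congr 1
  apply Units.ext
  rfl

/-- **the element `t`** -/
theorem exists_t_psl {n : ℕ} (hn : 2 ≤ n) (hF : Odd (Nat.card F)) :
    ∃ t : ↥(dT n F), (t : PG n F) ∈ (qs n F).range ∧ ∏ i, eta F ((adjP n F).a i t) = -1 := by
  obtain ⟨u, hu⟩ := exists_eta_neg hF
  refine ⟨⟨dP n F (dvec n u), dP_mem _⟩, ⟨dsl n (by omega) u, qs_dsl (by omega) u⟩, ?_⟩
  have h1 : ∀ i : Fin n, (adjP n F).a i ⟨dP n F (dvec n u), dP_mem _⟩ = dvec n u i.castSucc / dvec n u i.succ := fun i =>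
    aP_apply i _ _
  simp only [h1]
  obtain ⟨m, rfl⟩ : ∃ m, n = m + 2 := ⟨n - 2, by omega⟩
  rw [Fin.prod_univ_succ, Fin.prod_univ_succ]
  have h2 : ∀ i : Fin m, eta F (dvec (m + 2) u i.succ.succ.castSucc / dvec (m + 2) u i.succ.succ.succ) = 1 := fun i => by
    unfold dvec
    rw [if_neg (by simp), if_neg (by simp), if_neg (by simp), if_neg (by simp), div_one, map_one]
  rw [Finset.prod_congr rfl fun i _ => h2 i, Finset.prod_const_one, mul_one]
  have h3 : dvec (m + 2) u (0 : Fin (m + 2)).castSucc / dvec (m + 2) u (0 : Fin (m + 2)).succ = u ^ 2 := by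
    unfold dvec
    simp [sq]
  have h4 : dvec (m + 2) u (0 : Fin (m + 1)).succ.castSucc / dvec (m + 2) u (0 : Fin (m + 1)).succ.succ = u⁻¹ := by
    change (if (1 : ℕ) = 0 then u else if (1 : ℕ) = 1 then u⁻¹ else 1) /
      (if (2 : ℕ) = 0 then u else if (2 : ℕ) = 1 then u⁻¹ else 1) = u⁻¹
    simp
  rw [h3, h4, eta_sq, one_mul, map_inv, hu]
  rfl

end Cfsg.Agent.H712.OC
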